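import Mathlib
import Cfsg.Agent.Lib.Helper50.CAI.Defs

/-!
# CAI (S2202, helper50): package [QUOT]

Quotients by a normal subgroup contained in all the odd parts `Bz P`.
-/

set_option autoImplicit false

namespace Cfsg.Agent.Lib.Helper61.CAI

open Cfsg.Agent.Lib.Helper50.CAI

universe u

/-- An element of odd order killed by a power of two is trivial. -/
theorem eq_one_of_odd_of_pow_two {G : Type u} [Group G] {x : G} (ho : Odd (orderOf x)) (k : ℕ)
    (h : x ^ 2 ^ k = 1) : x = 1 := by
  have h1 : orderOf x ∣ 2 ^ k := orderOf_dvd_of_pow_eq_one h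
  have h2 : Nat.Coprime (orderOf x) (2 ^ k) :=
    Nat.Coprime.pow_right _ (Nat.coprime_two_right.mpr ho)
  have h3 : orderOf x = 1 := Nat.Coprime.eq_one_of_dvd h2 h1
  exact orderOf_eq_one_iff.mp h3

/-- An element of odd order of a Sylow 2-subgroup is trivial. -/
theorem eq_one_of_mem_sylow_of_odd {G : Type u} [Group G] (P : Sylow 2 G) {c : G}
    (hc : c ∈ (P : Subgroup G)) (ho : Odd (orderOf c)) : c = 1 := by
  obtain ⟨k, hk⟩ := P.isPGroup' ⟨c, hc⟩
  have h1 : c ^ 2 ^ k = 1 := by
    have := congrArg Subtype.val hk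
    simpa using this
  exact eq_one_of_odd_of_pow_two ho k h1

/-- If `g` centralizes the involution `t` modulo a subgroup of odd-order elements centralized
by `t`, then `g` centralizes `t`. -/
theorem comm_of_comm_mod {G : Type u} [Group G] (N : Subgroup G)
    (hNodd : ∀ n ∈ N, Odd (orderOf n)) {t g : G} (ht2 : t * t = 1)
    (htn : ∀ n ∈ N, t * n = n * t) (h : g * t * g⁻¹ * t⁻¹ ∈ N) : g * t = t * g := by
  have hn1 : g * t * g⁻¹ * t⁻¹ = 1 := by
    apply eq_one_of_odd_of_pow_two (hNodd _ h) 1
    have e := htn _ h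
    have h1 : g * t * g⁻¹ * t⁻¹ * t = g * t * g⁻¹ := by group
    have h2 : (g * t * g⁻¹) * (g * t * g⁻¹) = 1 := by
      have h3 : (g * t * g⁻¹) * (g * t * g⁻¹) = g * (t * t) * g⁻¹ := by group
      rw [h3, ht2]
      group
    rw [pow_one, pow_two]
    generalize g * t * g⁻¹ * t⁻¹ = n at e h1
    calc n * n = n * n * (t * t) := by rw [ht2, mul_one]
      _ = n * (n * t) * t := by simp only [mul_assoc]
      _ = n * (t * n) * t := by rw [e]
      _ = (n * t) * (n * t) := by simp only [mul_assoc]
      _ = 1 := by rw [h1, h2]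
  have h4 : g * t * g⁻¹ = t := mul_inv_eq_one.mp hn1
  exact mul_inv_eq_iff_eq_mul.mp h4

/-- Involutions lift through a quotient by a normal subgroup of odd order. -/
theorem lift_invol {G : Type u} [Group G] [Finite G] (N : Subgroup G) [N.Normal]
    (hodd : Odd (Nat.card N)) (t' : G ⧸ N) (ht' : orderOf t' = 2) :
    ∃ t : G, orderOf t = 2 ∧ QuotientGroup.mk' N t = t' := by
  have h2 : Fact (Nat.Prime 2) := ⟨Nat.prime_two⟩
  obtain ⟨x, rfl⟩ := QuotientGroup.mk'_surjective N t'
  obtain ⟨k, hk⟩ := hodd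
  have h1 : (QuotientGroup.mk' N x) ^ 2 = 1 := by
    rw [← ht']
    exact pow_orderOf_eq_one _
  have h3 : (QuotientGroup.mk' N x) ^ Nat.card N = QuotientGroup.mk' N x := by
    rw [hk, pow_succ, pow_mul, h1, one_pow, one_mul]
  refine ⟨x ^ Nat.card N, ?_, ?_⟩
  · have hx2 : x ^ 2 ∈ N := by
      rw [← QuotientGroup.eq_one_iff]
      exact h1
    have h4 : (x ^ Nat.card N) ^ 2 = 1 := by
      rw [← pow_mul, mul_comm, pow_mul]
      have h5 := pow_card_eq_one' (G := N) (x := ⟨x ^ 2, hx2⟩)
      have h6 : (((⟨x ^ 2, hx2⟩ : N) ^ Nat.card N : N) : G) = ((1 : N) : G) :=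
        congrArg Subtype.val h5
      rw [Subgroup.coe_pow] at h6
      exact h6
    apply orderOf_eq_prime h4
    intro h
    have h7 : (QuotientGroup.mk' N x) = 1 := by rw [← h3, ← map_pow, h, map_one]
    rw [h7, orderOf_one] at ht'
    omega
  · rw [map_pow, h3]

/-- [QUOT] -/
theorem pkgQuot (hB : PkgBasic.{u}) : PkgQuot.{u} := by
  intro G _ _ hH N _ hN
  have hBF : ∀ P : Sylow 2 G, BasicFacts P := fun P => hB hH P
  have h2 : Fact (Nat.Prime 2) := ⟨Nat.prime_two⟩
  have hNodd : ∀ n ∈ N, Odd (orderOf n) := fun n hn =>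
    (((hBF default).memB n).mp (hN default hn)).2
  have hNc : ∀ P : Sylow 2 G, ∀ n ∈ N, ∀ a ∈ (P : Subgroup G), a * n = n * a := by
    intro P n hn a ha
    have h1 := (((hBF P).memB n).mp (hN P hn)).1
    exact Subgroup.mem_centralizer_iff.mp h1 a ha
  have hoddN : Odd (Nat.card N) := by
    by_contra h
    rw [Nat.not_odd_iff_even] at h
    obtain ⟨n, hn⟩ := exists_prime_orderOf_dvd_card' (G := N) 2 h.two_dvd
    have h1 := hNodd n.1 n.2
    rw [Subgroup.orderOf_coe, hn] at h1
    exact absurd h1 (by decide)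
  have hsurj : Function.Surjective (QuotientGroup.mk' N) := QuotientGroup.mk'_surjective N
  -- lifts of elements centralizing an involution of `P` modulo `N`
  have hlift : ∀ (P : Sylow 2 G) (t : G), t ∈ (P : Subgroup G) → orderOf t = 2 → ∀ g : G,
      QuotientGroup.mk' N t * QuotientGroup.mk' N g =
        QuotientGroup.mk' N g * QuotientGroup.mk' N t → g ∈ Cz P := by
    intro P t htP ht g hg
    rw [← (hBF P).cent t htP ht, Subgroup.mem_centralizer_singleton_iff]
    have ht2 : t * t = 1 := by
      rw [← pow_two, ← ht]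
      exact pow_orderOf_eq_one t
    apply comm_of_comm_mod N hNodd ht2 (fun n hn => hNc P n hn t htP)
    rw [← QuotientGroup.eq_one_iff]
    show QuotientGroup.mk' N (g * t * g⁻¹ * t⁻¹) = 1
    rw [map_mul, map_mul, map_mul, map_inv, map_inv, ← hg]
    group
  have hHyp : Hyp (G ⧸ N) := by
    refine ⟨?_, ?_, ?_⟩
    · intro t' ht'
      obtain ⟨t, ht, rfl⟩ := lift_invol N hoddN t' ht'
      have hpg : IsPGroup 2 ↥(Subgroup.zpowers t) :=
        IsPGroup.of_card (n := 1) (by rw [Nat.card_zpowers, ht, pow_one])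
      obtain ⟨P, hP⟩ := hpg.exists_le_sylow
      have htP : t ∈ (P : Subgroup G) := hP (Subgroup.mem_zpowers t)
      refine ⟨⟨fun a b => ?_⟩⟩
      obtain ⟨a', ha'⟩ := hsurj a.1
      obtain ⟨b', hb'⟩ := hsurj b.1
      have h1 : a' ∈ Cz P := by
        apply hlift P t htP ht a'
        rw [ha']
        exact (Subgroup.mem_centralizer_singleton_iff.mp a.2).symm
      have h3 : b' ∈ Cz P := by
        apply hlift P t htP ht b'
        rw [hb']
        exact (Subgroup.mem_centralizer_singleton_iff.mp b.2).symm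
      apply Subtype.ext
      show a.1 * b.1 = b.1 * a.1
      rw [← ha', ← hb', ← map_mul, ← map_mul, (hBF P).comm a' h1 b' h3]
    · intro P'
      obtain ⟨P, rfl⟩ := Sylow.mapSurjective_surjective hsurj 2 P'
      show ¬ IsCyclic ↥((P : Subgroup G).map (QuotientGroup.mk' N))
      intro hcyc
      apply hH.ncyc P
      apply isCyclic_of_injective ((QuotientGroup.mk' N).subgroupMap (P : Subgroup G))
      intro a b hab
      have h1 : QuotientGroup.mk' N (a : G) = QuotientGroup.mk' N (b : G) :=
        congrArg Subtype.val hab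
      have h3 : (a : G)⁻¹ * b ∈ N := QuotientGroup.eq.mp h1
      have h4 : (a : G)⁻¹ * b = 1 :=
        eq_one_of_mem_sylow_of_odd P ((P : Subgroup G).mul_mem ((P : Subgroup G).inv_mem a.2) b.2)
          (hNodd _ h3)
      apply Subtype.ext
      exact inv_mul_eq_one.mp h4
    · intro P'
      obtain ⟨P, rfl⟩ := Sylow.mapSurjective_surjective hsurj 2 P'
      show ¬ ((P : Subgroup G).map (QuotientGroup.mk' N)).Normal
      intro hnorm
      apply hH.nnorm P
      constructor
      intro x hx g
      have h1 : QuotientGroup.mk' N (g * x * g⁻¹) ∈ (P : Subgroup G).map (QuotientGroup.mk' N) := by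
        rw [map_mul, map_mul, map_inv]
        exact hnorm.conj_mem _ (Subgroup.mem_map_of_mem _ hx) _
      obtain ⟨a, ha, hay⟩ := Subgroup.mem_map.mp h1
      have hn : a⁻¹ * (g * x * g⁻¹) ∈ N := QuotientGroup.eq.mp hay
      obtain ⟨n, hndef⟩ : ∃ n : G, n = a⁻¹ * (g * x * g⁻¹) := ⟨_, rfl⟩
      rw [← hndef] at hn
      have hcomm : a * n = n * a := hNc P n hn a ha
      have hy : g * x * g⁻¹ = a * n := by
        rw [hndef]
        group
      obtain ⟨i, hi⟩ := P.isPGroup' ⟨a, ha⟩
      obtain ⟨j, hj⟩ := P.isPGroup' ⟨x, hx⟩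
      have hai : a ^ 2 ^ i = 1 := by
        have := congrArg Subtype.val hi
        simpa using this
      have hxj : x ^ 2 ^ j = 1 := by
        have := congrArg Subtype.val hj
        simpa using this
      have hyj : (g * x * g⁻¹) ^ 2 ^ j = 1 := by
        rw [conj_pow, hxj]
        group
      have hn1 : n = 1 := by
        apply eq_one_of_odd_of_pow_two (hNodd n hn) (i + j)
        have h3 : (a * n) ^ 2 ^ (i + j) = 1 := by
          rw [← hy, pow_add, mul_comm, pow_mul, hyj, one_pow]
        have h4 : a ^ 2 ^ (i + j) = 1 := by rw [pow_add, pow_mul, hai, one_pow]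
        rw [(show Commute a n from hcomm).mul_pow, h4, one_mul] at h3
        exact h3
      rw [hy, hn1, mul_one]
      exact ha
  have hBF' : ∀ P' : Sylow 2 (G ⧸ N), BasicFacts P' := fun P' => hB hHyp P'
  have hBz : ∀ P : Sylow 2 G,
      Bz (P.mapSurjective hsurj) = (Bz P).map (QuotientGroup.mk' N) := by
    intro P
    have hP' : ((P.mapSurjective hsurj : Sylow 2 (G ⧸ N)) : Subgroup (G ⧸ N)) =
        (P : Subgroup G).map (QuotientGroup.mk' N) := rfl
    apply le_antisymm
    · intro x' hx'
      rw [(hBF' _).memB] at hx'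
      obtain ⟨hxC, hxo⟩ := hx'
      obtain ⟨g, rfl⟩ := hsurj x'
      obtain ⟨t, htP, ht⟩ : ∃ t, t ∈ (P : Subgroup G) ∧ orderOf t = 2 := by
        have h3 := (hBF P).three
        have hne : Nonempty {t : G // t ∈ (P : Subgroup G) ∧ orderOf t = 2} := by
          by_contra hne
          rw [not_nonempty_iff] at hne
          unfold mInv at h3
          rw [Nat.card_of_isEmpty] at h3
          omega
        obtain ⟨⟨t, h⟩⟩ := hne
        exact ⟨t, h⟩
      have hgC : g ∈ Cz P := by
        apply hlift P t htP ht g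
        have h1 : QuotientGroup.mk' N t ∈ ((P.mapSurjective hsurj : Sylow 2 (G ⧸ N)) :
            Subgroup (G ⧸ N)) := by
          rw [hP']
          exact Subgroup.mem_map_of_mem _ htP
        exact Subgroup.mem_centralizer_iff.mp hxC _ h1
      obtain ⟨s, hs, b, hb, hgsb⟩ := (hBF P).split g hgC
      have hbC : b ∈ Cz P ∧ Odd (orderOf b) := ((hBF P).memB b).mp hb
      have hgb : g * b = b * g := (hBF P).comm g hgC b hbC.1
      have hπs : QuotientGroup.mk' N s = 1 := by
        have h3 : QuotientGroup.mk' N s = QuotientGroup.mk' N g * (QuotientGroup.mk' N b)⁻¹ := by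
          rw [hgsb, map_mul]
          group
        have h4 : Commute (QuotientGroup.mk' N g) (QuotientGroup.mk' N b)⁻¹ := by
          apply Commute.inv_right
          show QuotientGroup.mk' N g * QuotientGroup.mk' N b =
            QuotientGroup.mk' N b * QuotientGroup.mk' N g
          rw [← map_mul, ← map_mul, hgb]
        have h5 : (QuotientGroup.mk' N s) ^
            (orderOf (QuotientGroup.mk' N g) * orderOf b) = 1 := by
          rw [h3, h4.mul_pow, pow_mul, pow_orderOf_eq_one, one_pow, one_mul, inv_pow,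
            ← map_pow, mul_comm, pow_mul, pow_orderOf_eq_one, one_pow, map_one, inv_one]
        have h6 : Odd (orderOf (QuotientGroup.mk' N s)) :=
          Odd.of_dvd_nat (hxo.mul hbC.2) (orderOf_dvd_of_pow_eq_one h5)
        apply eq_one_of_mem_sylow_of_odd (P.mapSurjective hsurj) _ h6
        rw [hP']
        exact Subgroup.mem_map_of_mem _ hs
      have h7 : QuotientGroup.mk' N g = QuotientGroup.mk' N b := by
        rw [hgsb, map_mul, hπs, one_mul]
      rw [h7]
      exact Subgroup.mem_map_of_mem _ hb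
    · rintro x' ⟨b, hb, rfl⟩
      rw [(hBF' _).memB]
      have hbC := ((hBF P).memB b).mp hb
      constructor
      · unfold Cz
        rw [Subgroup.mem_centralizer_iff]
        intro y hy
        rw [SetLike.mem_coe, hP'] at hy
        obtain ⟨a, ha, rfl⟩ := Subgroup.mem_map.mp hy
        have h1 := Subgroup.mem_centralizer_iff.mp hbC.1 a ha
        rw [← map_mul, ← map_mul, h1]
      · exact Odd.of_dvd_nat hbC.2 (orderOf_map_dvd _ b)
  refine ⟨hHyp, hoddN, fun P => ⟨_, hBz P⟩, ?_, fun t' ht' => lift_invol N hoddN t' ht'⟩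
  intro P'
  obtain ⟨P, rfl⟩ := Sylow.mapSurjective_surjective hsurj 2 P'
  exact ⟨P, hBz P⟩

end Cfsg.Agent.Lib.Helper61.CAI
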